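-- Team project OTSM (S5987, helper31), package [EXODDM] (helper62): isometries of the minus form
-- with `dim movSp = 2 i j`, from the plus form examples of OTSP [EXODD] (block `y₀ ⊕ 1`).
import Mathlib
import Cfsg.Agent.Lib.Helper31.OTSM.Defs
import Cfsg.Agent.Lib.Helper14.Isom

set_option autoImplicit false
open scoped MatrixGroups
open Matrix

namespace Cfsg.Agent.Lib.Helper62.OTSM

open Cfsg.Agent.Lib.Helper23.OHyp Cfsg.Agent.Lib.Helper64.OParM Cfsg.Agent.Lib.Helper99.OTSP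
  Cfsg.Agent.Lib.Helper31.OTSM

universe u

section

variable {F : Type u} [Field F] {k : ℕ}

/-- extension by zero on the binary part. -/
def exInl (F : Type u) [Field F] (k : ℕ) : ((Fin k ⊕ Fin k) → F) →ₗ[F] (MI k → F) where
  toFun u := Sum.elim u 0
  map_add' := by
    intro u v
    funext s
    rcases s with s | s <;> simp
  map_smul' := by
    intro c u
    funext s
    rcases s with s | s <;> simp

theorem exInl_injective : Function.Injective (exInl F k) := by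
  intro u v h
  funext s
  have := congrFun h (Sum.inl s)
  simpa [exInl] using this

/-- the action of the block matrix `A ⊕ 1`. -/
theorem exBlock_mulVec (A : Matrix (Fin k ⊕ Fin k) (Fin k ⊕ Fin k) F) (x : MI k → F) :
    (Matrix.fromBlocks A 0 0 (1 : Matrix (Fin 2) (Fin 2) F)) *ᵥ x =
      Sum.elim (A *ᵥ (x ∘ Sum.inl)) (x ∘ Sum.inr) := by
  have hx : x = Sum.elim (x ∘ Sum.inl) (x ∘ Sum.inr) := by
    funext s
    rcases s with s | s <;> rfl
  conv_lhs => rw [hx]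
  rw [Matrix.fromBlocks_mulVec]
  simp

theorem exBlock_pow (A : Matrix (Fin k ⊕ Fin k) (Fin k ⊕ Fin k) F) (n : ℕ) :
    (Matrix.fromBlocks A 0 0 (1 : Matrix (Fin 2) (Fin 2) F)) ^ n =
      Matrix.fromBlocks (A ^ n) 0 0 (1 : Matrix (Fin 2) (Fin 2) F) := by
  induction n with
  | zero => simp [Matrix.fromBlocks_one]
  | succ n ih =>
    rw [pow_succ, ih, Matrix.fromBlocks_multiply, pow_succ]
    simp

theorem exBlock_movSp (A : Matrix (Fin k ⊕ Fin k) (Fin k ⊕ Fin k) F) :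
    movSp (Matrix.fromBlocks A 0 0 (1 : Matrix (Fin 2) (Fin 2) F)) =
      (movSp A).map (exInl F k) := by
  have key : ∀ x : MI k → F,
      (Matrix.toLin' (Matrix.fromBlocks A 0 0 (1 : Matrix (Fin 2) (Fin 2) F)) - 1) x =
        exInl F k ((Matrix.toLin' A - 1) (x ∘ Sum.inl)) := by
    intro x
    rw [LinearMap.sub_apply, LinearMap.sub_apply, Matrix.toLin'_apply, Matrix.toLin'_apply,
      exBlock_mulVec]
    funext s
    rcases s with s | s
    · simp [exInl]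
    · simp [exInl]
  apply le_antisymm
  · rintro _ ⟨x, rfl⟩
    rw [key]
    exact Submodule.mem_map_of_mem ⟨_, rfl⟩
  · rintro _ ⟨_, ⟨u, rfl⟩, rfl⟩
    refine ⟨exInl F k u, ?_⟩
    rw [key]
    congr 2

end

/-- **[EXODDM]** -/
theorem pkgExOddM_of (hE : PkgExOdd.{u}) : PkgExOddM.{u} := by
  intro F _ _ k r j a b _hab hr hr2 hrq hodd hj hk
  obtain ⟨y₀, hy₀, hy₀r, hdim⟩ := hE F k r j hr hr2 hrq hodd hj hk
  have h1 : Matrix.fromBlocks (y₀ : Matrix (Fin k ⊕ Fin k) (Fin k ⊕ Fin k) F) 0 0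
        (1 : Matrix (Fin 2) (Fin 2) F) *
      Matrix.fromBlocks ((y₀⁻¹ : GL (Fin k ⊕ Fin k) F) : Matrix (Fin k ⊕ Fin k) (Fin k ⊕ Fin k) F)
        0 0 (1 : Matrix (Fin 2) (Fin 2) F) = 1 := by
    rw [Matrix.fromBlocks_multiply]
    have : (y₀ : Matrix (Fin k ⊕ Fin k) (Fin k ⊕ Fin k) F) *
        ((y₀⁻¹ : GL (Fin k ⊕ Fin k) F) : Matrix (Fin k ⊕ Fin k) (Fin k ⊕ Fin k) F) = 1 := by
      rw [← Units.val_mul, mul_inv_cancel, Units.val_one]
    simp [this, Matrix.fromBlocks_one]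
  have h2 : Matrix.fromBlocks ((y₀⁻¹ : GL (Fin k ⊕ Fin k) F) :
        Matrix (Fin k ⊕ Fin k) (Fin k ⊕ Fin k) F) 0 0 (1 : Matrix (Fin 2) (Fin 2) F) *
      Matrix.fromBlocks (y₀ : Matrix (Fin k ⊕ Fin k) (Fin k ⊕ Fin k) F) 0 0
        (1 : Matrix (Fin 2) (Fin 2) F) = 1 := by
    rw [Matrix.fromBlocks_multiply]
    have : ((y₀⁻¹ : GL (Fin k ⊕ Fin k) F) : Matrix (Fin k ⊕ Fin k) (Fin k ⊕ Fin k) F) *
        (y₀ : Matrix (Fin k ⊕ Fin k) (Fin k ⊕ Fin k) F) = 1 := by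
      rw [← Units.val_mul, inv_mul_cancel, Units.val_one]
    simp [this, Matrix.fromBlocks_one]
  refine ⟨⟨_, _, h1, h2⟩, ?_, ?_, ?_⟩
  · rw [Cfsg.Agent.Lib.Helper14.mem_isometryGroup_iff]
    intro x
    show Cfsg.quadFormMinus k F a b
      (Matrix.fromBlocks (y₀ : Matrix (Fin k ⊕ Fin k) (Fin k ⊕ Fin k) F) 0 0
        (1 : Matrix (Fin 2) (Fin 2) F) *ᵥ x) = Cfsg.quadFormMinus k F a b x
    rw [exBlock_mulVec]
    have hq : ∀ v : MI k → F, Cfsg.quadFormMinus k F a b v =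
        Cfsg.quadFormPlus k F (v ∘ Sum.inl) +
          (v (.inr 0) ^ 2 + a * v (.inr 0) * v (.inr 1) + b * v (.inr 1) ^ 2) := fun v => rfl
    rw [hq, hq]
    have hiso := (Cfsg.Agent.Lib.Helper14.mem_isometryGroup_iff _ y₀).mp hy₀ (x ∘ Sum.inl)
    have e1 : (Sum.elim ((y₀ : Matrix (Fin k ⊕ Fin k) (Fin k ⊕ Fin k) F) *ᵥ (x ∘ Sum.inl))
        (x ∘ Sum.inr) : MI k → F) ∘ Sum.inl =
        (y₀ : Matrix (Fin k ⊕ Fin k) (Fin k ⊕ Fin k) F) *ᵥ (x ∘ Sum.inl) := rfl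
    rw [e1, hiso]
    rfl
  · apply Units.ext
    show (Matrix.fromBlocks (y₀ : Matrix (Fin k ⊕ Fin k) (Fin k ⊕ Fin k) F) 0 0
        (1 : Matrix (Fin 2) (Fin 2) F)) ^ r = 1
    rw [exBlock_pow, ← Units.val_pow_eq_pow_val, hy₀r, Units.val_one, Matrix.fromBlocks_one]
  · show Module.finrank F (movSp (Matrix.fromBlocks
        (y₀ : Matrix (Fin k ⊕ Fin k) (Fin k ⊕ Fin k) F) 0 0 (1 : Matrix (Fin 2) (Fin 2) F))) = _
    rw [exBlock_movSp, ← hdim]
    exact (LinearEquiv.finrank_eq (Submodule.equivMapOfInjective (exInl F k) exInl_injective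
      (movSp (y₀ : Matrix (Fin k ⊕ Fin k) (Fin k ⊕ Fin k) F)))).symm

end Cfsg.Agent.Lib.Helper62.OTSM
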